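import Groth.Agent.Lib.FiniteMor15.FlatDense
import Groth.Agent.Lib.TopDimLib.Basic
import Groth.Agent.Lib.AlgSpace.QCQS
import Groth.Agent.S0404

/-!
# Dimensions of fibres of morphisms of spaces
-/

universe u

set_option backward.isDefEq.respectTransparency.types false

open CategoryTheory CategoryTheory.Limits AlgebraicGeometry Opposite MorphismProperty AlgSp Topology

namespace Groth.Agent.FiniteMor15

open Groth.Agent.AlgSpace Groth.Agent.AlgSpDecent Groth.Agent.AlgSpRel14

variable {S : Scheme.{u}}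

theorem fibreDimAt_of_subsingleton {A B : Scheme.{u}} (f : A ⟶ B) [Subsingleton B] (a : A) :
    FlatMor.fibreDimAt f a = FlatMor.localDim A a := by
  rw [FibDim14.fibreDimAt_eq_localDim_preimage]
  have : IsOpen (f ⁻¹' {f a} : Set A) := by
    rw [show (f ⁻¹' {f a} : Set A) = Set.univ from Set.eq_univ_of_forall fun z => Subsingleton.elim _ _]
    exact isOpen_univ
  exact FibDim14.localDim_of_isOpenEmbedding this.isOpenEmbedding_subtypeVal _

theorem dim_fiber_le_iff {A B : Scheme.{u}} (g : A ⟶ B) (b : B) (c : WithBot ℕ∞) :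
    topologicalKrullDim (g.fiber b) ≤ c ↔ ∀ a, g a = b → FlatMor.fibreDimAt g a ≤ c := by
  rw [IsHomeomorph.topologicalKrullDim_eq _ (g.fiberHomeo b).isHomeomorph,
    TopDimLib.dim_eq_iSup_localDim, iSup_le_iff]
  constructor
  · rintro h a rfl
    rw [FibDim14.fibreDimAt_eq_localDim_preimage]
    exact h ⟨a, rfl⟩
  · rintro h ⟨a, ha⟩
    obtain rfl : g a = b := ha
    rw [← FibDim14.fibreDimAt_eq_localDim_preimage]
    exact h a rfl

/-- The dimension of a field-valued fibre is read on the fibre points. -/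
theorem dim_le_iff {X Y : Space S} (f : X ⟶ Y) (hf : LocP @LocallyOfFiniteType f.hom)
    {p : FieldPt Y.obj} {Xk : Sp S} {fst : Xk ⟶ X.obj} {snd : Xk ⟶ (yon S).obj p.pt}
    (sq : IsPullback fst snd f.hom p.toHom) (c : WithBot ℕ∞) :
    AlgSp.dim Xk ≤ c ↔ ∀ x, Points.map f.hom x = Points.mk p →
      HasAtMor (fun _ _ h u => FlatMor.fibreDimAt h u ≤ c) f.hom x := by
  obtain ⟨U, V, U', a, b, h, a', V', h', q, β, j, hae, hbe, ha'e, ha's, w, wp, sqs, hh, hh', hj⟩ :=
    exists_fibre_chart f hf sq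
  have := locallyQuasiFinite_of_etale j
  have key : ∀ z : U'.left, FlatMor.localDim U'.left z = FlatMor.fibreDimAt h.left (q.left z) := fun z => by
    rw [← FibDim14.fibreDimAt_baseChange sqs, ← FibDim14.fibreDimAt_comp_lqf h' j]
    exact (fibreDimAt_of_subsingleton _ z).symm
  have hmap : ∀ z : U'.left, Points.map fst (Points.ofPt a' z) = Points.ofPt a (q.left z) := fun z => by
    rw [Points.map_ofPt, wp, ofPt_map_comp]
  rw [dim_eq_of_chart ha'e ha's, TopDimLib.dim_eq_iSup_localDim, iSup_le_iff]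
  constructor
  · intro H x hx
    obtain ⟨z, hz, -⟩ := exists_point_lift sq x (Points.ofScheme p.pt (IsLocalRing.closedPoint p.K))
      (by rw [← Points.ofPt_eq_map_ofScheme, Points.ofPt_toHom]; exact hx)
    obtain ⟨u', rfl⟩ := surjective_ofPt ha's z
    rw [← hz, hmap, hasAtMor_fibreDimAt_iff (R := fun t => t ≤ c) hf hae hbe w, ← key]
    exact H u'
  · intro H z
    have hx : Points.map f.hom (Points.map fst (Points.ofPt a' z)) = Points.mk p := by
      obtain ⟨s, hs⟩ := (Points.schemeEquiv p.pt).surjective (Points.map snd (Points.ofPt a' z))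
      rw [← Points.map_comp, sq.w, Points.map_comp, ← hs]
      exact (Points.ofPt_eq_map_ofScheme p.toHom s).symm.trans (Points.ofPt_toHom p s)
    have h1 := H _ hx
    rw [hmap, hasAtMor_fibreDimAt_iff (R := fun t => t ≤ c) hf hae hbe w, ← key] at h1
    exact h1

theorem dim_eq_bot_iff {X Y : Space S} (f : X ⟶ Y) (hf : LocP @LocallyOfFiniteType f.hom)
    {p : FieldPt Y.obj} {Xk : Sp S} {fst : Xk ⟶ X.obj} {snd : Xk ⟶ (yon S).obj p.pt}
    (sq : IsPullback fst snd f.hom p.toHom) :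
    AlgSp.dim Xk = ⊥ ↔ Points.mk p ∉ Set.range (Points.map f.hom) := by
  rw [← le_bot_iff, dim_le_iff f hf sq]
  refine ⟨fun H ⟨x, hx⟩ => ?_, fun H x hx => absurd ⟨x, hx⟩ H⟩
  obtain ⟨U, V, a, b, h, u, hae, hbe, w, -, hu⟩ := H x hx
  have := lft_of_chart hf hae hbe w
  obtain ⟨x', -, -, hd, -⟩ := FibDim14.exists_fibreDimAt_eq h.left u
  rw [hd] at hu
  exact absurd hu (by simp)

/-- Affine charts of a quasi-compact morphism covering fibres. -/
theorem exists_affine_chart_over {X Y : Space S} (f : X ⟶ Y) (hf : IsQuasiCompactMor f.hom)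
    (y : Points Y.obj) :
    ∃ (V U : Over S) (b : (yon S).obj V ⟶ Y.obj) (a : (yon S).obj U ⟶ X.obj) (g : U ⟶ V) (v : V.left),
      IsAffine V.left ∧ IsAffine U.left ∧ RepWith @Etale b ∧ RepWith @Etale a ∧
        a ≫ f.hom = (yon S).map g ≫ b ∧ Points.ofPt b v = y ∧
        ∀ (x : Points X.obj) (v' : V.left), Points.map f.hom x = Points.ofPt b v' →
          ∃ u : U.left, Points.ofPt a u = x ∧ g.left u = v' := by
  obtain ⟨V₀, b₀, hb₀, hbs₀⟩ := Y.property.atlas
  obtain ⟨v₀, rfl⟩ := surjective_ofPt hbs₀ y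
  obtain ⟨O, hO, hvO, -⟩ := exists_isAffineOpen_mem_and_subset (X := V₀.left) (x := v₀) (U := ⊤) trivial
  let V : Over S := Over.mk (O.ι ≫ V₀.hom)
  let b : (yon S).obj V ⟶ Y.obj := (yon S).map (Over.homMk O.ι rfl : V ⟶ V₀) ≫ b₀
  have hb : RepWith @Etale b := repWith_etale_restrict hb₀ O
  have sqP := IsPullback.of_hasPullback f.hom b
  have hP : IsAlgSpace (pullback f.hom b) := isAlgSpace_baseChange X.property Y.property (IsAlgSpace.yon_obj V) sqP
  have : IsAffine V.left := hO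
  have hc : IsQuasiCompactSp (pullback f.hom b) :=
    isQuasiCompactSp_of_mor hP (IsAlgSpace.yon_obj V) (isQuasiCompactMor_of_isPullback sqP hf)
      ((isQuasiCompactSp_iff (IsAlgSpace.yon_obj V)).2 (compactSpace_yon_of_affine V))
  obtain ⟨U, π, hU, hπe, hπs⟩ := exists_affine_chart hc
  obtain ⟨g, hg⟩ := (yon S).map_surjective (π ≫ pullback.snd f.hom b)
  refine ⟨V, U, b, π ≫ pullback.fst f.hom b, g, ⟨v₀, hvO⟩, hO, hU, hb,
    repWith_comp hπe (repWith_of_isPullback sqP.flip hb), ?_, ?_, fun x v' hx => ?_⟩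
  · rw [hg, Category.assoc, Category.assoc, pullback.condition]
  · exact ofPt_map_comp _ _ _
  · obtain ⟨z, hz, hz'⟩ := exists_point_lift sqP x (Points.ofScheme V v')
      (by rw [← Points.ofPt_eq_map_ofScheme]; exact hx)
    obtain ⟨u, rfl⟩ := surjective_ofPt hπs z
    refine ⟨u, by rw [← hz, Points.map_ofPt], (Points.schemeEquiv V).injective ?_⟩
    rw [Points.map_ofPt, ← hg, ofPt_map_eq] at hz'
    exact hz'

/-- The dimension of fibres read on such a chart. -/
theorem dim_eq_dim_fiber {X Y : Space S} (f : X ⟶ Y) (hf : LocP @LocallyOfFiniteType f.hom)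
    {V U : Over S} {b : (yon S).obj V ⟶ Y.obj} {a : (yon S).obj U ⟶ X.obj} {g : U ⟶ V}
    (hb : RepWith @Etale b) (ha : RepWith @Etale a) (w : a ≫ f.hom = (yon S).map g ≫ b)
    (hcov : ∀ (x : Points X.obj) (v' : V.left), Points.map f.hom x = Points.ofPt b v' →
      ∃ u : U.left, Points.ofPt a u = x ∧ g.left u = v')
    {v : V.left} {p : FieldPt Y.obj} (hp : Points.mk p = Points.ofPt b v) {Xk : Sp S}
    {fst : Xk ⟶ X.obj} {snd : Xk ⟶ (yon S).obj p.pt} (sq : IsPullback fst snd f.hom p.toHom) :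
    AlgSp.dim Xk = topologicalKrullDim (g.left.fiber v) := by
  refine eq_of_forall_ge_iff fun c => ?_
  rw [dim_le_iff f hf sq, dim_fiber_le_iff]
  constructor
  · intro H u hu
    rw [← hasAtMor_fibreDimAt_iff (R := fun t => t ≤ c) hf ha hb w]
    exact H _ (by rw [Points.map_ofPt, w, ofPt_map_comp, hu, hp])
  · intro H x hx
    obtain ⟨u, rfl, hu⟩ := hcov x v (hx.trans hp)
    rw [hasAtMor_fibreDimAt_iff (R := fun t => t ≤ c) hf ha hb w]
    exact H u hu

/-- The set of points of the base whose fibres have dimension with a given property. -/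
def dimSet {X Y : Space S} (f : X ⟶ Y) (P : WithBot ℕ∞ → Prop) : Set (Points Y.obj) :=
  {y | ∀ (k : FieldPt Y.obj), Points.mk k = y →
      ∀ (Xk : Sp S) (fst : Xk ⟶ X.obj) (snd : Xk ⟶ (yon S).obj k.pt),
        IsPullback fst snd f.hom k.toHom → P (AlgSp.dim Xk)}

theorem mem_dimSet_iff {X Y : Space S} (f : X ⟶ Y) (P : WithBot ℕ∞ → Prop)
    (hf : LocP @LocallyOfFiniteType f.hom)
    {V U : Over S} {b : (yon S).obj V ⟶ Y.obj} {a : (yon S).obj U ⟶ X.obj} {g : U ⟶ V}
    (hb : RepWith @Etale b) (ha : RepWith @Etale a) (w : a ≫ f.hom = (yon S).map g ≫ b)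
    (hcov : ∀ (x : Points X.obj) (v' : V.left), Points.map f.hom x = Points.ofPt b v' →
      ∃ u : U.left, Points.ofPt a u = x ∧ g.left u = v') (v : V.left) :
    Points.ofPt b v ∈ dimSet f P ↔ P (topologicalKrullDim (g.left.fiber v)) := by
  constructor
  · intro H
    have sq := IsPullback.of_hasPullback f.hom (FieldPt.ofPt b v).toHom
    have h1 := H (FieldPt.ofPt b v) rfl _ _ _ sq
    rwa [dim_eq_dim_fiber f hf hb ha w hcov rfl sq] at h1
  · intro H k hk Xk fst snd sq
    rwa [dim_eq_dim_fiber f hf hb ha w hcov hk sq]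

theorem wb_lt_zero (t : WithBot ℕ∞) : t < ((0 : ℕ∞) : WithBot ℕ∞) ↔ t ≤ ⊥ := by
  cases t with
  | bot => simp
  | coe t => simp
theorem wb_lt_succ (t : WithBot ℕ∞) (n : ℕ) :
    t < (((n + 1 : ℕ) : ℕ∞) : WithBot ℕ∞) ↔ t ≤ (n : WithBot ℕ∞) := by
  rw [← WithBot.coe_natCast]
  cases t with
  | bot => simp
  | coe t =>
    rw [WithBot.coe_lt_coe, WithBot.coe_le_coe]
    exact ENat.lt_natCast_add_one_iff
theorem wb_eq_bot (t : WithBot ℕ∞) : t = ⊥ ↔ t < ((0 : ℕ∞) : WithBot ℕ∞) := by
  rw [wb_lt_zero, le_bot_iff]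
theorem wb_eq_zero (t : WithBot ℕ∞) :
    t = ((0 : ℕ∞) : WithBot ℕ∞) ↔ ⊥ < t ∧ t < (((0 + 1 : ℕ) : ℕ∞) : WithBot ℕ∞) := by
  rw [wb_lt_succ, bot_lt_iff_ne_bot, Nat.cast_zero]
  refine ⟨fun h => h ▸ ⟨WithBot.coe_ne_bot, le_rfl⟩, fun ⟨h, h'⟩ => ?_⟩
  obtain ⟨t, rfl⟩ := WithBot.ne_bot_iff_exists.1 h
  rw [← WithBot.coe_zero, WithBot.coe_le_coe] at h'
  rw [nonpos_iff_eq_zero.1 h']
theorem wb_eq_succ (t : WithBot ℕ∞) (n : ℕ) :
    t = (((n + 1 : ℕ) : ℕ∞) : WithBot ℕ∞) ↔
      (n : WithBot ℕ∞) < t ∧ t < (((n + 1 + 1 : ℕ) : ℕ∞) : WithBot ℕ∞) := by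
  rw [wb_lt_succ, ← not_le, ← wb_lt_succ, not_lt, le_antisymm_iff, and_comm]
  rw [WithBot.coe_natCast]

/-- On each chart the fibre dimensions are bounded. -/
theorem exists_bound {A B : Scheme.{u}} [CompactSpace A] (g : A ⟶ B) [LocallyOfFiniteType g] :
    ∃ n : ℕ, ∀ b, topologicalKrullDim (g.fiber b) ≤ (n : WithBot ℕ∞) := by
  obtain ⟨n, hn⟩ := (isCompact_univ (X := A)).elim_directed_cover
    (fun m : ℕ => {a : A | FlatMor.fibreDimAt g a ≤ (m : WithBot ℕ∞)})
    (fun m => FibDim14.isOpen_fibreDimAt_le g m)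
    (fun a _ => by
      obtain ⟨a', -, -, hd, -⟩ := FibDim14.exists_fibreDimAt_eq g a
      exact Set.mem_iUnion.2 ⟨_, hd.le⟩)
    (Monotone.directed_le fun m m' h a ha =>
      le_trans (show FlatMor.fibreDimAt g a ≤ (m : WithBot ℕ∞) from ha) (by exact_mod_cast h))
  exact ⟨n, fun b => (dim_fiber_le_iff g b _).2 fun a _ => hn (Set.mem_univ a)⟩

/-- Openness of the fibre dimension sets is read on charts. -/
theorem isOpen_dimSet {X Y : Space S} (f : X ⟶ Y) (hft : LocP @LocallyOfFiniteType f.hom)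
    (hqc : IsQuasiCompactMor f.hom) (P : WithBot ℕ∞ → Prop)
    (H : ∀ (V U : Over S) (b : (yon S).obj V ⟶ Y.obj) (a : (yon S).obj U ⟶ X.obj) (g : U ⟶ V),
      IsAffine V.left → IsAffine U.left → RepWith @Etale b → RepWith @Etale a →
      a ≫ f.hom = (yon S).map g ≫ b →
      (∀ (x : Points X.obj) (v' : V.left), Points.map f.hom x = Points.ofPt b v' →
          ∃ u : U.left, Points.ofPt a u = x ∧ g.left u = v') →
      IsOpen {v : V.left | P (topologicalKrullDim (g.left.fiber v))}) :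
    IsOpen (dimSet f P) := by
  refine isOpen_iff_forall_mem_open.2 fun y hy => ?_
  obtain ⟨V, U, b, a, g, v, hV, hU, hb, ha, w, rfl, hcov⟩ := exists_affine_chart_over f hqc y
  refine ⟨Points.ofPt b '' {v | P (topologicalKrullDim (g.left.fiber v))}, ?_,
    isOpenMap_ofPt b hb _ (H V U b a g hV hU hb ha w hcov),
    ⟨v, (mem_dimSet_iff f P hft hb ha w hcov v).1 hy, rfl⟩⟩
  rintro _ ⟨v', hv', rfl⟩
  exact (mem_dimSet_iff f P hft hb ha w hcov v').2 hv'

theorem isOpen_lt_dimSet {X Y : Space S} (f : X ⟶ Y) (hf1 : LocP @Flat f.hom)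
    (hf2 : IsFinitePresentationMor f.hom) (d : WithBot ℕ∞) :
    IsOpen (dimSet f (fun t => d < t)) := by
  refine isOpen_dimSet f (locP_mono (Q := @LocallyOfFiniteType)
      (fun _ _ g (_ : LocallyOfFinitePresentation g) => inferInstance) hf2.1)
    hf2.2.1 _ fun V U b a g hV hU hb ha w _ => ?_
  have : Flat g.left := hf1 a b g ha hb w
  have : LocallyOfFinitePresentation g.left := hf2.1 a b g ha hb w
  exact Groth.Agent.S0404.result g.left d

/-- The proper image argument for upper semicontinuity. -/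
theorem isOpen_dimSet_le {X Y : Space S} (f : X ⟶ Y) (hf : IsProperMor f.hom) (n : ℕ) :
    IsOpen (dimSet f (fun t => t ≤ (n : WithBot ℕ∞))) := by
  have hft := hf.2.1.1
  have e : dimSet f (fun t => t ≤ (n : WithBot ℕ∞)) = (Points.map f.hom ''
      {x | HasAtMor (fun _ _ h u => FlatMor.fibreDimAt h u ≤ (n : WithBot ℕ∞)) f.hom x}ᶜ)ᶜ := by
    ext y
    constructor
    · rintro H ⟨x, hx, rfl⟩
      obtain ⟨p, hp⟩ := Quotient.exists_rep (Points.map f.hom x)
      exact hx ((dim_le_iff f hft (IsPullback.of_hasPullback f.hom p.toHom) _).1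
        (H p hp _ _ _ (IsPullback.of_hasPullback f.hom p.toHom)) x hp.symm)
    · intro H k hk Xk fst snd sq
      refine (dim_le_iff f hft sq _).2 fun x hx => ?_
      by_contra hc
      exact H ⟨x, hc, hx.trans hk⟩
  rw [e]
  exact ((isClosedMap_of_isUnivClosedMor Y.property hf.2.2)
    _ (isOpen_relDim_le X.property Y.property hft n).isClosed_compl).isOpen_compl

theorem isOpen_dimSet_bot {X Y : Space S} (f : X ⟶ Y) (hf : IsProperMor f.hom) :
    IsOpen (dimSet f (fun t => t ≤ ⊥)) := by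
  have e : dimSet f (fun t => t ≤ ⊥) = (Set.range (Points.map f.hom))ᶜ := by
    ext y
    constructor
    · intro H hy
      obtain ⟨p, hp⟩ := Quotient.exists_rep y
      have hb := (dim_eq_bot_iff f hf.2.1.1 (IsPullback.of_hasPullback f.hom p.toHom)).1
        (le_bot_iff.1 (H p hp _ _ _ (IsPullback.of_hasPullback f.hom p.toHom)))
      exact hb (by rw [show Points.mk p = y from hp]; exact hy)
    · intro H k hk Xk fst snd sq
      exact ((dim_eq_bot_iff f hf.2.1.1 sq).2 (hk.symm ▸ H)).le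
  rw [e]
  exact (isClosedMap_of_isUnivClosedMor Y.property hf.2.2).isClosed_range.isOpen_compl

theorem isOpen_dimSet_lt {X Y : Space S} (f : X ⟶ Y) (hf : IsProperMor f.hom) (d : WithBot ℕ∞) :
    IsOpen (dimSet f (fun t => t < d)) := by
  refine isOpen_dimSet f hf.2.1.1 hf.2.1.2 _ fun V U b a g hV hU hb ha w hcov => ?_
  have : LocallyOfFiniteType g.left := lft_of_chart hf.2.1.1 ha hb w
  obtain ⟨N, hN⟩ := exists_bound g.left
  have hle : ∀ n : ℕ, IsOpen {v : V.left | topologicalKrullDim (g.left.fiber v) ≤ (n : WithBot ℕ∞)} := by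
    intro n
    convert (isOpen_dimSet_le f hf n).preimage (Points.continuous_ofPt b) using 1
    ext v
    exact (mem_dimSet_iff f (fun t => t ≤ (n : WithBot ℕ∞)) hf.2.1.1 hb ha w hcov v).symm
  match d with
  | ⊥ => simp
  | (d : ℕ∞) =>
    cases d with
    | top =>
      rw [show {v : V.left | topologicalKrullDim (g.left.fiber v) < ((⊤ : ℕ∞) : WithBot ℕ∞)} = Set.univ from
        Set.eq_univ_of_forall fun v => (hN v).trans_lt
          (WithBot.coe_lt_coe.2 (ENat.coe_lt_top N))]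
      exact isOpen_univ
    | coe n =>
      cases n with
      | zero =>
        convert (isOpen_dimSet_bot f hf).preimage (Points.continuous_ofPt b) using 1
        ext v
        rw [Set.mem_preimage, mem_dimSet_iff f _ hf.2.1.1 hb ha w hcov v]
        exact wb_lt_zero _
      | succ n =>
        convert hle n using 1
        ext v
        exact wb_lt_succ _ n

theorem isOpen_dimSet_eq {X Y : Space S} (f : X ⟶ Y) (hf1 : IsProperMor f.hom)
    (hf2 : LocP @Flat f.hom) (hf3 : IsFinitePresentationMor f.hom) (d : WithBot ℕ∞) :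
    IsOpen (dimSet f (fun t => t = d)) := by
  refine isOpen_dimSet f hf1.2.1.1 hf1.2.1.2 _ fun V U b a g hV hU hb ha w hcov => ?_
  have key : ∀ e, IsOpen {v : V.left | topologicalKrullDim (g.left.fiber v) < e} ∧
      IsOpen {v : V.left | e < topologicalKrullDim (g.left.fiber v)} := fun e => by
    constructor
    · convert (isOpen_dimSet_lt f hf1 e).preimage (Points.continuous_ofPt b) using 1
      ext v
      exact (mem_dimSet_iff f (fun t => t < e) hf1.2.1.1 hb ha w hcov v).symm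
    · convert (isOpen_lt_dimSet f hf2 hf3 e).preimage (Points.continuous_ofPt b) using 1
      ext v
      exact (mem_dimSet_iff f (fun t => e < t) hf1.2.1.1 hb ha w hcov v).symm
  have : LocallyOfFiniteType g.left := lft_of_chart hf1.2.1.1 ha hb w
  obtain ⟨N, hN⟩ := exists_bound g.left
  match d with
  | ⊥ =>
    convert (key ((0 : ℕ∞) : WithBot ℕ∞)).1 using 1
    ext v
    exact wb_eq_bot _
  | (d : ℕ∞) =>
    cases d with
    | top =>
      rw [show {v : V.left | topologicalKrullDim (g.left.fiber v) = ((⊤ : ℕ∞) : WithBot ℕ∞)} = ∅ from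
        Set.eq_empty_of_forall_notMem fun v hv =>
          absurd ((hN v).trans_lt (WithBot.coe_lt_coe.2 (ENat.coe_lt_top N))) (not_lt.2 hv.ge)]
      exact isOpen_empty
    | coe n =>
      cases n with
      | zero =>
        convert (key ⊥).2.inter (key (((0 + 1 : ℕ) : ℕ∞) : WithBot ℕ∞)).1 using 1
        ext v
        exact wb_eq_zero _
      | succ n =>
        convert (key ((n : ℕ) : WithBot ℕ∞)).2.inter
          (key (((n + 1 + 1 : ℕ) : ℕ∞) : WithBot ℕ∞)).1 using 1
        ext v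
        exact wb_eq_succ _ n

end Groth.Agent.FiniteMor15
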