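import Groth.Agent.Lib.AlgSpace.LqfScheme
import Groth.Agent.Lib.AlgSpace.Proper
import Groth.Agent.Lib.AlgSpace.UnivClosedQC
import Groth.Agent.Lib.AlgSpRel14.Discrete
import Groth.Prelude.Def_AlgSpDec
import Mathlib.AlgebraicGeometry.ZariskisMainTheorem

/-!
# Proper and quasi-finite morphisms of spaces are finite
-/

universe u

set_option backward.isDefEq.respectTransparency.types false

open CategoryTheory CategoryTheory.Limits AlgebraicGeometry Opposite MorphismProperty AlgSp

namespace Groth.Agent.FiniteMor15

open Groth.Agent.AlgSpace Groth.Agent.AlgSpDecent Groth.Agent.AlgSpRel14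

variable {S : Scheme.{u}}

/-- Zariski's main theorem for proper locally quasi-finite morphisms of spaces. -/
theorem isFiniteMor_of_proper_lqf {X Y : Sp S} (hX : IsAlgSpace X) (hY : IsAlgSpace Y) {f : X ⟶ Y}
    (hf : IsProperMor f) (hq : LocP LqfLft f) : IsFiniteMor f := by
  have hr : Representable f := representable_of_lqf_separated hX hY f hf.1 hq
  have h₁ := (repWith_isProper_iff hX hY hr).2 hf
  have h₂ := repWith_of_locP hY hr hq
  refine isFiniteMor_iff_repWith.2 ⟨hr, fun T W g fst snd sq => ?_⟩
  have : IsProper snd.left := h₁.2 g fst snd sq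
  have : LocallyQuasiFinite snd.left := (h₂.2 g fst snd sq).1
  exact IsFinite.of_isProper_of_locallyQuasiFinite snd.left

theorem locP_lqf_of_isFiniteMor {X Y : Sp S} (hY : IsAlgSpace Y) {f : X ⟶ Y}
    (hf : IsFiniteMor f) : LocP LqfLft f :=
  locP_of_repWith hY (repWith_mono (Q := LqfLft) (fun _ _ g (_ : IsFinite g) =>
    (⟨inferInstanceAs (LocallyQuasiFinite g), inferInstanceAs (LocallyOfFiniteType g)⟩ : LqfLft g))
    (isFiniteMor_iff_repWith.1 hf))

/-- All field-valued fibres are discrete exactly when the morphism is locally quasi-finite. -/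
theorem locP_lqf_iff_discrete {X Y : Space S} (f : X ⟶ Y) (hf : LocP @LocallyOfFiniteType f.hom) :
    LocP LqfLft f.hom ↔ ∀ (k : FieldPt Y.obj) (Xk : Sp S) (fst : Xk ⟶ X.obj)
      (snd : Xk ⟶ (yon S).obj k.pt), IsPullback fst snd f.hom k.toHom →
        DiscreteTopology (Points Xk) := by
  refine ⟨fun h k Xk fst snd sq => discreteTopology_of_lqf f h sq,
    fun H => locP_lqf_of_discrete f hf fun k _ str y P fst snd sq => ?_⟩
  let p : FieldPt Y.obj := { K := k, str := str, val := (J S).uliftYonedaEquiv y }
  exact H p P fst snd (show IsPullback fst snd f.hom p.toHom by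
    simpa [p, FieldPt.toHom] using sq)

/-- The open locus of the base over which all points are quasi-finite. -/
theorem exists_finite_nhd {X Y : Space S} (f : X ⟶ Y) (y : Points Y.obj) (hf : IsProperMor f.hom)
    (hq : ∀ x : Points X.obj, Points.map f.hom x = y → HasAtMor (Near LqfLft) f.hom x) :
    ∃ (V : Space S) (j : V ⟶ Y), RepWith @IsOpenImmersion j.hom ∧
      y ∈ Set.range (Points.map j.hom) ∧
        ∀ (P : Space S) (fst : P ⟶ X) (snd : P ⟶ V), IsPullback fst.hom snd.hom f.hom j.hom →
          IsFiniteMor snd.hom := by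
  let B : Set (Points X.obj) := {x | HasAtMor (Near LqfLft) f.hom x}ᶜ
  have hB : IsClosed B :=
    (isOpen_setOf_hasAtMor_near LqfLft X.property Y.property f.hom).isClosed_compl
  have hfB : IsClosed (Points.map f.hom '' B) :=
    isClosedMap_of_isUnivClosedMor Y.property hf.2.2 _ hB
  obtain ⟨V, j, hj, hr⟩ := exists_open_space Y hfB.isOpen_compl
  refine ⟨V, j, hj, ?_, fun P fst snd sq => ?_⟩
  · rw [hr]
    rintro ⟨x, hx, hxy⟩
    exact hx (hq x hxy)
  · refine isFiniteMor_of_proper_lqf P.property V.property
      (isProperMor_of_isPullback X.property Y.property V.property sq hf) ?_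
    rw [locP_iff_forall_hasAtMor_near LqfLft P.property V.property]
    intro p
    rw [← hasAtMor_near_lqf_baseChange X.property Y.property V.property hf.2.1.1 sq p]
    by_contra hp
    have h : Points.map j.hom (Points.map snd.hom p) ∈ (Points.map f.hom '' B)ᶜ :=
      hr.subset ⟨_, rfl⟩
    exact h ⟨Points.map fst.hom p, hp, by rw [← Points.map_comp, ← Points.map_comp, sq.w]⟩

end Groth.Agent.FiniteMor15
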