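import Groth.Agent.Lib.FiniteMor15.Basic
import Groth.Agent.Lib.FibIneq18.Basic
import Groth.Agent.Lib.AlgSpRel14.RelDim
import Groth.Agent.Lib.AlgSpDecent.FiniteGeneric
import Groth.Agent.Lib.AlgSpDecent.LocNoeth

/-!
# Quasi-finiteness over points of codimension at most one
-/

universe u

set_option backward.isDefEq.respectTransparency.types false

open CategoryTheory CategoryTheory.Limits AlgebraicGeometry Opposite MorphismProperty AlgSp Topology

namespace Groth.Agent.FiniteMor15

open Groth.Agent.AlgSpace Groth.Agent.AlgSpDecent Groth.Agent.AlgSpRel14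

variable {S : Scheme.{u}}

/-- A dense open of a locally Noetherian scheme contains every generic point. -/
theorem mem_of_dense_of_isMin {U : Scheme.{u}} [IsLocallyNoetherian U] {O : Set U} (hO : IsOpen O)
    (hd : Dense O) {η : U} (hη : ∀ z, z ⤳ η → z = η) : η ∈ O := by
  obtain ⟨_, ⟨W, hW, rfl⟩, hηW, -⟩ :=
    U.isBasis_affineOpens.exists_subset_of_mem_open (Set.mem_univ η) isOpen_univ
  have : IsNoetherianRing Γ(U, W) := IsLocallyNoetherian.component_noetherian ⟨W, hW⟩
  have : TopologicalSpace.NoetherianSpace W :=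
    noetherianSpace_of_isAffineOpen W hW
  let η' : W := ⟨η, hηW⟩
  obtain ⟨C, hC, hηC⟩ : ∃ C ∈ irreducibleComponents W, η' ∈ C :=
    exists_mem_irreducibleComponents_subset_of_isIrreducible {η'} isIrreducible_singleton
      |>.imp fun C h => ⟨h.1, h.2 rfl⟩
  let N : Set W := (⋃ D ∈ irreducibleComponents W \ {C}, D)ᶜ
  have hN : IsOpen N := ((TopologicalSpace.NoetherianSpace.finite_irreducibleComponents.sdiff).isClosed_biUnion
    fun D hD => isClosed_of_mem_irreducibleComponents D hD.1).isOpen_compl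
  have hgen : ∀ D ∈ irreducibleComponents W, η' ∈ D → D ⊆ closure {η'} := fun D hD hmem => by
    obtain ⟨g, hg⟩ := QuasiSober.sober hD.1 (isClosed_of_mem_irreducibleComponents D hD)
    have hgη : g ⤳ η' := hg.specializes hmem
    have : g = η' := Subtype.ext (hη _ (hgη.map continuous_subtype_val))
    exact this ▸ hg.def.ge
  have hηN : η' ∈ N := by
    intro hmem
    obtain ⟨D, hD, hmem⟩ := Set.mem_iUnion₂.1 hmem
    exact hD.2 (hD.1.eq_of_subset hC.1 fun z hz => closure_minimal (Set.singleton_subset_iff.2 hηC)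
      (isClosed_of_mem_irreducibleComponents C hC) (hgen D hD.1 hmem hz))
  obtain ⟨z, hz, hzO⟩ := hd.inter_open_nonempty _ (W.2.isOpenMap_subtype_val N hN) ⟨η, η', hηN, rfl⟩
  obtain ⟨z', hz', rfl⟩ := hz
  obtain ⟨D, hD, hzD⟩ := exists_mem_irreducibleComponents_subset_of_isIrreducible {z'}
    isIrreducible_singleton |>.imp fun D h => (⟨h.1, h.2 rfl⟩ : D ∈ irreducibleComponents W ∧ z' ∈ D)
  have hDC : D = C := by
    by_contra hne
    exact hz' (Set.mem_biUnion ⟨hD, hne⟩ hzD)
  have hsp : η' ⤳ z' := specializes_iff_mem_closure.2 (hgen C hC hηC (hDC ▸ hzD))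
  exact (hsp.map continuous_subtype_val).mem_open hO hzO

/-- Quasi-finiteness over a point of codimension at most one, tested on generic points of charts. -/
theorem hasAtMor_near_of_codim_le_one {X Y : Space S} (f : X ⟶ Y)
    (hf : LocP @LocallyOfFiniteType f.hom) (hY : IsLocNoethSp Y.obj) (y : Points Y.obj)
    (hy : HasAt (fun U u => ringKrullDim ↥(U.presheaf.stalk u) ≤ 1) Y.obj y)
    (hgen : ∀ (U V : Over S) (a : (yon S).obj U ⟶ X.obj) (b : (yon S).obj V ⟶ Y.obj) (h : U ⟶ V),
      RepWith @Etale a → RepWith @Etale b → a ≫ f.hom = (yon S).map h ≫ b → IsLocallyNoetherian U.left →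
      LocallyOfFiniteType h.left → ∀ η : U.left, (∀ z, z ⤳ η → z = η) →
        Points.map f.hom (Points.ofPt a η) ⤳ y → FibDim14.rd h.left η = 0)
    (x : Points X.obj) (hx : Points.map f.hom x = y) : HasAtMor (Near LqfLft) f.hom x := by
  obtain ⟨U, V, a, b, h, u, hae, hbe, w, rfl⟩ := exists_diagram X.property Y.property f.hom x
  have := isLocallyNoetherian_of_etale_chart hY hbe
  have := lft_of_chart hf hae hbe w
  have : IsLocallyNoetherian U.left := LocallyOfFiniteType.isLocallyNoetherian h.left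
  have hyv : Points.ofPt b (h.left u) = y := by rw [← hx, Points.map_ofPt, w, ofPt_map_comp]
  rw [← hyv] at hy
  have hdim : ringKrullDim (V.left.presheaf.stalk (h.left u)) ≤ 1 := by
    refine (hasAt_iff_of_chart (fun A B g _ a => ?_) hbe _).1 hy
    rw [ringKrullDim_stalk_etale g a]
  rw [hasAtMor_near_iff LqfLft hae hbe w, near_lqf_iff]
  obtain ⟨η, x', hηx', hx'u, he, hmin, hdx, -, hineq⟩ := FibIneq18.exists_generic h.left u
  have h0 : FibDim14.rd h.left η = 0 := by
    refine hgen U V a b h hae hbe w inferInstance inferInstance η hmin ?_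
    rw [← hx]
    exact ((hηx'.trans hx'u).map (Points.continuous_ofPt a)).map (Points.continuous_map _)
  by_cases hne : η = x'
  · rw [hdx, ← hne, h0]; rfl
  · have h1 := (hineq hne).trans (add_le_add hdim le_rfl)
    rw [h0] at h1
    have h2 : 1 + FibDim14.rd h.left x' ≤ 1 := by exact_mod_cast h1
    rw [hdx, show FibDim14.rd h.left x' = 0 by omega]; rfl

theorem rd_eq_zero_of_near {A B : Scheme.{u}} (h : A ⟶ B) [LocallyOfFiniteType h] {a : A}
    (ha : Near LqfLft A B h a) : FibDim14.rd h a = 0 := by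
  have h1 := FibDim14.rd_le_fibreDimAt h (x := a) specializes_rfl rfl
  rw [(near_lqf_iff h a).1 ha] at h1
  exact Nat.le_zero.1 (by exact_mod_cast h1)

theorem near_of_trdeg_zero {X Y : Space S} (f : X ⟶ Y)
    (hf : LocP @LocallyOfFiniteType f.hom) (hY : IsLocNoethSp Y.obj) (y : Points Y.obj)
    (hy : HasAt (fun U u => ringKrullDim ↥(U.presheaf.stalk u) ≤ 1) Y.obj y)
    (h : ∀ x : Points X.obj, HasAt (fun U u => ringKrullDim ↥(U.presheaf.stalk u) = 0) X.obj x →
      Points.map f.hom x ⤳ y → HasAtMor (fun _ _ h u => Dual3.resTrdeg h u = 0) f.hom x)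
    (x : Points X.obj) (hx : Points.map f.hom x = y) : HasAtMor (Near LqfLft) f.hom x :=
  hasAtMor_near_of_codim_le_one f hf hY y hy (fun U V a b k hae hbe w _ _ η hη hsp => by
    have h0 := (hasAtMor_iff_of_chart (etInvOn_rd (fun c => c = 0)) hf hae hbe w η).1
      (h _ ((hasAt_dim_zero_iff hae η).2 hη) hsp)
    rw [resTrdeg_eq_rd] at h0
    exact_mod_cast h0) x hx

theorem near_of_codimZero {X Y : Space S} (f : X ⟶ Y)
    (hf : LocP @LocallyOfFiniteType f.hom) (hY : IsLocNoethSp Y.obj) (y : Points Y.obj)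
    (hy : HasAt (fun U u => ringKrullDim ↥(U.presheaf.stalk u) ≤ 1) Y.obj y)
    (h : ∀ x : Points X.obj, HasAt (fun U u => ringKrullDim ↥(U.presheaf.stalk u) = 0) X.obj x →
      HasAtMor (Near LqfLft) f.hom x)
    (x : Points X.obj) (hx : Points.map f.hom x = y) : HasAtMor (Near LqfLft) f.hom x :=
  hasAtMor_near_of_codim_le_one f hf hY y hy (fun U V a b k hae hbe w _ _ η hη _ =>
    rd_eq_zero_of_near k.left ((hasAtMor_near_iff LqfLft hae hbe w η).1
      (h _ ((hasAt_dim_zero_iff hae η).2 hη)))) x hx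

theorem near_of_dense {X Y : Space S} (f : X ⟶ Y)
    (hf : LocP @LocallyOfFiniteType f.hom) (hY : IsLocNoethSp Y.obj) (y : Points Y.obj)
    (hy : HasAt (fun U u => ringKrullDim ↥(U.presheaf.stalk u) ≤ 1) Y.obj y)
    (h : Dense {x : Points X.obj | HasAtMor (Near LqfLft) f.hom x})
    (x : Points X.obj) (hx : Points.map f.hom x = y) : HasAtMor (Near LqfLft) f.hom x :=
  hasAtMor_near_of_codim_le_one f hf hY y hy (fun U V a b k hae hbe w _ _ η hη _ =>
    rd_eq_zero_of_near k.left ((hasAtMor_near_iff LqfLft hae hbe w η).1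
      (show η ∈ Points.ofPt a ⁻¹' {x | HasAtMor (Near LqfLft) f.hom x} from
        mem_of_dense_of_isMin ((isOpen_setOf_hasAtMor_near LqfLft X.property Y.property f.hom).preimage
          (Points.continuous_ofPt a)) (h.preimage (isOpenMap_ofPt a hae)) hη))) x hx

/-- Over a point of codimension zero, quasi-finite means of codimension zero. -/
theorem fibre_codimZero {X Y : Space S} (f : X ⟶ Y) (hf : LocP @LocallyOfFiniteType f.hom)
    (y : Points Y.obj) (hy : HasAt (fun U u => ringKrullDim ↥(U.presheaf.stalk u) = 0) Y.obj y) :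
    ((∀ x : Points X.obj, Points.map f.hom x = y →
        HasAt (fun U u => ringKrullDim ↥(U.presheaf.stalk u) = 0) X.obj x) ↔
      (∀ x : Points X.obj, Points.map f.hom x = y → HasAtMor (Near LqfLft) f.hom x)) ∧
    ((∀ x : Points X.obj, Points.map f.hom x = y →
        HasAt (fun U u => ringKrullDim ↥(U.presheaf.stalk u) = 0) X.obj x →
        HasAtMor (Near LqfLft) f.hom x) →
      ∀ x : Points X.obj, Points.map f.hom x = y →
        HasAt (fun U u => ringKrullDim ↥(U.presheaf.stalk u) = 0) X.obj x) := by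
  have key : (∀ x : Points X.obj, Points.map f.hom x = y →
        HasAt (fun U u => ringKrullDim ↥(U.presheaf.stalk u) = 0) X.obj x →
        HasAtMor (Near LqfLft) f.hom x) →
      ∀ x : Points X.obj, Points.map f.hom x = y →
        HasAt (fun U u => ringKrullDim ↥(U.presheaf.stalk u) = 0) X.obj x := by
    intro H x hx
    obtain ⟨U, V, a, b, h, u, hae, hbe, w, rfl⟩ := exists_diagram X.property Y.property f.hom x
    have := lft_of_chart hf hae hbe w
    have hyv : Points.ofPt b (h.left u) = y := by rw [← hx, Points.map_ofPt, w, ofPt_map_comp]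
    obtain ⟨C, hC, huC⟩ := exists_mem_irreducibleComponents_subset_of_isIrreducible {u}
      isIrreducible_singleton |>.imp fun D h => (⟨h.1, h.2 rfl⟩ : D ∈ irreducibleComponents U.left ∧ u ∈ D)
    obtain ⟨η, hη⟩ := QuasiSober.sober hC.1 (isClosed_of_mem_irreducibleComponents C hC)
    have hsp : η ⤳ u := hη.specializes huC
    have hmin : ∀ z, z ⤳ η → z = η := fun z hz => by
      have : C ⊆ closure {z} := by
        rw [← hη.def]
        exact closure_minimal (Set.singleton_subset_iff.2 (specializes_iff_mem_closure.1 hz)) isClosed_closure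
      have he : C = closure {z} := hC.eq_of_subset isIrreducible_singleton.closure this
      exact (show IsGenericPoint z C from he.symm).eq hη
    have heta : h.left η = h.left u :=
      (hasAt_dim_zero_iff hbe _).1 (hyv.symm ▸ hy) _ (hsp.map h.left.continuous)
    have h0 : FibDim14.rd h.left η = 0 := rd_eq_zero_of_near h.left
      ((hasAtMor_near_iff LqfLft hae hbe w η).1 (H _ (by
        rw [Points.map_ofPt, w, ofPt_map_comp, heta, hyv]) ((hasAt_dim_zero_iff hae η).2 hmin)))
    rw [hasAt_dim_zero_iff hae]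
    by_cases he : η = u
    · exact he ▸ hmin
    · have := FibDim14.rd_lt_of_specializes h.left hsp he heta
      omega
  refine ⟨⟨fun H x hx => ?_, fun H x hx => key (fun z hz _ => H z hz) x hx⟩, key⟩
  obtain ⟨U, V, a, b, h, u, hae, hbe, w, rfl⟩ := exists_diagram X.property Y.property f.hom x
  have := lft_of_chart hf hae hbe w
  rw [hasAtMor_near_iff LqfLft hae hbe w, near_lqf_iff]
  have hyv : Points.ofPt b (h.left u) = y := by rw [← hx, Points.map_ofPt, w, ofPt_map_comp]
  have hmin : ∀ z : U.left, h.left z = h.left u → ∀ z', z' ⤳ z → z' = z := fun z hz =>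
    (hasAt_dim_zero_iff hae z).1 (H _ (by rw [Points.map_ofPt, w, ofPt_map_comp, hz, hyv]))
  have hdim : topologicalKrullDim (h.left.fiber (h.left u)) ≤ 0 :=
    H12.topologicalKrullDim_nonpos_iff.2 fun z₁ z₂ hs =>
      (h.left.fiberι (h.left u)).isEmbedding.injective
        (hmin _ ((h.left.range_fiberι (h.left u)).le ⟨z₂, rfl⟩) _
          (hs.map (h.left.fiberι (h.left u)).continuous))
  obtain ⟨x', -, -, hd, -⟩ := FibDim14.exists_fibreDimAt_eq h.left u
  have hle : FlatMor.fibreDimAt h.left u ≤ 0 :=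
    (iInf_le_of_le (⟨⊤, trivial⟩ : {O : TopologicalSpace.Opens (h.left.fiber (h.left u)) //
      h.left.asFiber u ∈ O}) ((IsInducing.subtypeVal.topologicalKrullDim_le).trans hdim))
  rw [hd] at hle ⊢
  have : FibDim14.rd h.left x' ≤ 0 := by exact_mod_cast hle
  rw [Nat.le_zero.1 this]
  rfl

end Groth.Agent.FiniteMor15
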