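import Groth.Agent.Lib.FiniteMor15.Basic
import Groth.Agent.Lib.AlgSpRel14.RelDim
import Groth.Agent.Lib.AlgSpace.Chart
import Groth.Agent.S1240

/-!
# Fibre dimension of flat morphisms over dense opens
-/

universe u

set_option backward.isDefEq.respectTransparency.types false

open CategoryTheory CategoryTheory.Limits AlgebraicGeometry Opposite MorphismProperty AlgSp Topology

namespace Groth.Agent.FiniteMor15

open Groth.Agent.AlgSpace Groth.Agent.AlgSpDecent Groth.Agent.AlgSpRel14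

variable {S : Scheme.{u}}

theorem hasAtMor_fibreDimAt_baseChange {X Y Y' X' : Sp S} (hX : IsAlgSpace X) (hY : IsAlgSpace Y)
    (hY' : IsAlgSpace Y') {f : X ⟶ Y} (hf : LocP @LocallyOfFiniteType f) {g : Y' ⟶ Y} {g' : X' ⟶ X}
    {f' : X' ⟶ Y'} (sq : IsPullback g' f' f g) (R : WithBot ℕ∞ → Prop) (x' : Points X') :
    HasAtMor (fun _ _ h u => R (FlatMor.fibreDimAt h u)) f (Points.map g' x') ↔
      HasAtMor (fun _ _ h u => R (FlatMor.fibreDimAt h u)) f' x' := by
  obtain ⟨U, V, U', V', a, b, h, a', b', h', p, β, hae, -, hbe, -, ha'e, ha's, hb'e, -, w, w', wp, -, sqs⟩ :=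
    exists_cart_diagram hX hY hY' sq
  have := lft_of_chart hf hae hbe w
  have hf' : LocP @LocallyOfFiniteType f' := locP_of_isPullback hX hY hY' sq hf
  have := lft_of_chart hf' ha'e hb'e w'
  obtain ⟨u', rfl⟩ := surjective_ofPt ha's x'
  rw [Points.map_ofPt, wp, ofPt_map_comp, hasAtMor_fibreDimAt_iff hf hae hbe w,
    hasAtMor_fibreDimAt_iff hf' ha'e hb'e w', FibDim14.fibreDimAt_baseChange sqs]

theorem preimage_range_open {V Y : Space S} {j : V ⟶ Y} (hj : RepWith @IsOpenImmersion j.hom)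
    (hqc : IsQuasiCompactMor j.hom) {T : Over S} (g : (yon S).obj T ⟶ Y.obj) :
    IsRetrocompact (Points.ofPt g ⁻¹' Set.range (Points.map j.hom)) := by
  have sq := hj.1.isPullback g
  have : IsOpenImmersion (hj.1.snd g).left := hj.2 g _ _ sq
  have : QuasiCompact (hj.1.snd g).left :=
    ((repWith_quasiCompact_iff V.property Y.property hj.1).2 hqc).2 g _ _ sq
  have e : Points.ofPt g ⁻¹' Set.range (Points.map j.hom) = Set.range (hj.1.snd g).left := by
    ext u
    constructor
    · rintro ⟨z, hz⟩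
      obtain ⟨v, -, hv⟩ := exists_pt_of_isPullback sq hz
      exact ⟨v, hv⟩
    · rintro ⟨v, rfl⟩
      exact ⟨_, ofPt_sq sq.w v⟩
  rw [e]
  intro W hW hWo
  rw [Set.inter_comm, ← Set.image_preimage_eq_inter_range]
  exact ((hj.1.snd g).left.isCompact_preimage (U := ⟨W, hWo⟩) hW).image
    (hj.1.snd g).left.continuous

theorem relDim_le_of_flat_dense {X Y V P : Space S} (f : X ⟶ Y) (j : V ⟶ Y) (d : ℕ)
    (hf1 : LocP @Flat f.hom) (hf2 : LocP @LocallyOfFiniteType f.hom)
    (hj1 : RepWith @IsOpenImmersion j.hom) (hj2 : Dense (Set.range (Points.map j.hom)))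
    (fst : P ⟶ X) (snd : P ⟶ V) (hP : IsPullback fst.hom snd.hom f.hom j.hom)
    (hV : ∀ x, HasAtMor (fun _ _ h u => FlatMor.fibreDimAt h u ≤ (d : WithBot ℕ∞)) snd.hom x)
    (h : LocP @LocallyOfFinitePresentation f.hom ∨ IsQuasiCompactMor j.hom) (x : Points X.obj) :
    HasAtMor (fun _ _ h u => FlatMor.fibreDimAt h u ≤ (d : WithBot ℕ∞)) f.hom x := by
  obtain ⟨U, W, a, b, k, u, hae, hbe, w, rfl⟩ := exists_diagram X.property Y.property f.hom x
  have := lft_of_chart hf2 hae hbe w
  have : Flat k.left := hf1 a b k hae hbe w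
  let O : W.left.Opens := ⟨Points.ofPt b ⁻¹' Set.range (Points.map j.hom),
    (isOpen_range_map_of_openImmersion hj1).preimage (Points.continuous_ofPt b)⟩
  rw [hasAtMor_fibreDimAt_iff (R := fun t => t ≤ (d : WithBot ℕ∞)) hf2 hae hbe w]
  refine Groth.Agent.S1240.result k.left O (hj2.preimage (isOpenMap_ofPt b hbe)) d (fun z hz => ?_) ?_ u
  · obtain ⟨v, hv⟩ : Points.ofPt b (k.left z) ∈ Set.range (Points.map j.hom) := hz
    obtain ⟨p, hp, -⟩ := exists_point_lift hP (Points.ofPt a z) v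
      (by rw [Points.map_ofPt, w, ofPt_map_comp, hv])
    have h1 := (hasAtMor_fibreDimAt_baseChange X.property Y.property V.property hf2 hP
      (fun t => t ≤ (d : WithBot ℕ∞)) p).2 (hV p)
    rw [hp, hasAtMor_fibreDimAt_iff (R := fun t => t ≤ (d : WithBot ℕ∞)) hf2 hae hbe w] at h1
    exact h1
  · exact h.imp (fun h => h a b k hae hbe w) fun h => preimage_range_open hj1 h b

theorem isFiniteMor_of_flat_proper {X Y V P : Space S} (f : X ⟶ Y) (j : V ⟶ Y)
    (hf1 : LocP @Flat f.hom) (hf2 : IsProperMor f.hom)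
    (hj1 : RepWith @IsOpenImmersion j.hom) (hj2 : Dense (Set.range (Points.map j.hom)))
    (fst : P ⟶ X) (snd : P ⟶ V) (hP : IsPullback fst.hom snd.hom f.hom j.hom)
    (hV : IsFiniteMor snd.hom)
    (h : LocP @LocallyOfFinitePresentation f.hom ∨ IsQuasiCompactMor j.hom) :
    IsFiniteMor f.hom := by
  have hft := hf2.2.1.1
  refine isFiniteMor_of_proper_lqf X.property Y.property hf2 ?_
  rw [locP_iff_forall_hasAtMor_near LqfLft X.property Y.property]
  intro x
  have h1 := relDim_le_of_flat_dense f j 0 hf1 hft hj1 hj2 fst snd hP (fun p => ?_) h x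
  · obtain ⟨U, W, a, b, k, u, hae, hbe, w, rfl⟩ := exists_diagram X.property Y.property f.hom x
    have := lft_of_chart hft hae hbe w
    rw [hasAtMor_near_iff LqfLft hae hbe w, near_lqf_iff]
    rw [hasAtMor_fibreDimAt_iff (R := fun t => t ≤ ((0 : ℕ) : WithBot ℕ∞)) hft hae hbe w] at h1
    obtain ⟨x', -, -, hd, -⟩ := FibDim14.exists_fibreDimAt_eq k.left u
    rw [hd, Nat.cast_le] at h1
    rw [hd, Nat.le_zero.1 h1]; rfl
  · have hs := locP_lqf_of_isFiniteMor V.property hV
    obtain ⟨U, W, a, b, k, u, hae, hbe, w, rfl⟩ := exists_diagram P.property V.property snd.hom p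
    have := lft_of_chart (locP_mono (fun _ _ _ h => h.2) hs) hae hbe w
    have : LocallyQuasiFinite k.left := (hs a b k hae hbe w).1
    exact ⟨U, W, a, b, k, u, hae, hbe, w, rfl, by beta_reduce; rw [FibDim14.fibreDimAt_eq_zero k.left u]; rfl⟩

end Groth.Agent.FiniteMor15
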